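import Mathlib.RingTheory.GradedAlgebra.Basic
import Mathlib.Algebra.Algebra.Operations
import Mathlib.RingTheory.Ideal.Operations
import Mathlib.Tactic.Linarith

/-!
# Eventual generation of the pieces of a ℤ-graded ring by a single piece
-/

set_option autoImplicit false
universe u

namespace Groth.Agent.GrRingLib

variable {R A : Type u} [CommRing R] [CommRing A] [Algebra R A]
variable (𝒜 : ℤ → Submodule R A) [GradedAlgebra 𝒜]
variable {p : ℕ} (f : Fin p → A) (deg : Fin p → ℤ)

lemma expand (hf : ∀ i, f i ∈ 𝒜 (deg i)) {n : ℤ} {a : A} (ha : a ∈ 𝒜 n)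
    (h : a ∈ Ideal.span (Set.range f)) :
    ∃ c : Fin p → A, (∀ i, c i ∈ 𝒜 (n - deg i)) ∧ a = ∑ i, c i * f i := by
  obtain ⟨r, hr⟩ := Ideal.mem_span_range_iff_exists_fun.1 h
  refine ⟨fun i => (DirectSum.decompose 𝒜 (r i) (n - deg i) : A), fun i => SetLike.coe_mem _, ?_⟩
  calc a = (DirectSum.decompose 𝒜 a n : A) := (DirectSum.decompose_of_mem_same 𝒜 ha).symm
    _ = ∑ i, (DirectSum.decompose 𝒜 (r i * f i) n : A) := by
        rw [← hr, DirectSum.decompose_sum]
        simp
    _ = _ := Finset.sum_congr rfl fun i _ => by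
        conv_lhs => rw [show n = (n - deg i) + deg i by ring]
        exact DirectSum.coe_decompose_mul_add_of_right_mem 𝒜 (hf i)

lemma piece_eq (hdeg : ∀ i, 0 < deg i) (hf : ∀ i, f i ∈ 𝒜 (deg i))
    (hgen : Ideal.span {a : A | ∃ n : ℤ, 0 < n ∧ a ∈ 𝒜 n} = Ideal.span (Set.range f))
    (d : ℤ) (hd : 0 < d) (hdvd : ∀ i, deg i ∣ d) (N : ℤ) (hN : d * p - ∑ i, deg i < N) :
    𝒜 N = 𝒜 d * 𝒜 (N - d) := by
  classical
  refine le_antisymm (fun x hx => ?_) ?_
  swap
  · rw [Submodule.mul_le]
    intro a ha b hb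
    simpa using SetLike.mul_mem_graded ha hb
  choose m hm using hdvd
  have hmpos : ∀ i, 0 < m i := fun i => by
    have := hm i
    rcases lt_trichotomy 0 (m i) with h | h | h
    · exact h
    · rw [← h, mul_zero] at this; omega
    · exact absurd (mul_neg_of_pos_of_neg (hdeg i) h) (by omega)
  -- a term with a large exponent lies in the product
  have big : ∀ (e : Fin p → ℕ) (a : A), a ∈ 𝒜 (N - ∑ i, (e i : ℤ) * deg i) → (∃ i, m i ≤ e i) →
      a * ∏ i, f i ^ e i ∈ 𝒜 d * 𝒜 (N - d) := by
    rintro e a ha ⟨j, hj⟩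
    let mj : ℕ := (m j).toNat
    have hmj : (mj : ℤ) = m j := Int.toNat_of_nonneg (hmpos j).le
    have h1 : f j ^ mj ∈ 𝒜 d := by
      have := SetLike.pow_mem_graded mj (hf j)
      rwa [show mj • deg j = d by rw [nsmul_eq_mul, hm j, hmj]; ring] at this
    have h2 : a * (f j ^ (e j - mj) * ∏ i ∈ Finset.univ.erase j, f i ^ e i) ∈ 𝒜 (N - d) := by
      have hp : ∏ i ∈ Finset.univ.erase j, f i ^ e i ∈ 𝒜 (∑ i ∈ Finset.univ.erase j, (e i) • deg i) :=
        SetLike.prod_mem_graded _ _ _ fun i _ => SetLike.pow_mem_graded (e i) (hf i)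
      have := SetLike.mul_mem_graded ha (SetLike.mul_mem_graded (SetLike.pow_mem_graded (e j - mj) (hf j)) hp)
      convert this using 2
      rw [← Finset.add_sum_erase _ _ (Finset.mem_univ j)]
      have hle : mj ≤ e j := by omega
      simp only [nsmul_eq_mul, Nat.cast_sub hle, hmj, hm j]
      ring
    have heq : a * ∏ i, f i ^ e i = f j ^ mj * (a * (f j ^ (e j - mj) * ∏ i ∈ Finset.univ.erase j, f i ^ e i)) := by
      rw [← Finset.mul_prod_erase _ _ (Finset.mem_univ j)]
      have hle : mj ≤ e j := by omega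
      conv_lhs => rw [show e j = mj + (e j - mj) by omega, pow_add]
      ring
    rw [heq]
    exact Submodule.mul_mem_mul h1 h2
  let K : ℕ := ∑ i, (m i).toNat
  have key : ∀ (k : ℕ) (e : Fin p → ℕ) (a : A), K + 1 ≤ (∑ i, e i) + k →
      a ∈ 𝒜 (N - ∑ i, (e i : ℤ) * deg i) → a * ∏ i, f i ^ e i ∈ 𝒜 d * 𝒜 (N - d) := by
    intro k
    induction k with
    | zero =>
      intro e a hk ha
      refine big e a ha ?_
      by_contra hc
      push Not at hc
      have : ∑ i, e i ≤ K := Finset.sum_le_sum fun i _ => by have := hc i; omega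
      omega
    | succ k ih =>
      intro e a hk ha
      by_cases hbig : ∃ i, m i ≤ e i
      · exact big e a ha hbig
      push Not at hbig
      have hsum : ∑ i, (e i : ℤ) * deg i ≤ d * p - ∑ i, deg i := by
        have h1 : ∀ i, (e i : ℤ) * deg i ≤ d - deg i := fun i => by
          have hh : (e i : ℤ) ≤ m i - 1 := by have := hbig i; omega
          calc (e i : ℤ) * deg i ≤ (m i - 1) * deg i := mul_le_mul_of_nonneg_right hh (hdeg i).le
            _ = d - deg i := by rw [hm i]; ring
        calc ∑ i, (e i : ℤ) * deg i ≤ ∑ i, (d - deg i) := Finset.sum_le_sum fun i _ => h1 i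
          _ = _ := by simp [Finset.sum_sub_distrib, mul_comm]
      obtain ⟨c, hc, hac⟩ := expand 𝒜 f deg hf ha
        (hgen.le (Ideal.subset_span ⟨_, by linarith, ha⟩))
      rw [hac, Finset.sum_mul]
      refine sum_mem fun j _ => ?_
      let e' : Fin p → ℕ := Function.update e j (e j + 1)
      have he' : (∑ i, e' i) = (∑ i, e i) + 1 := by
        simp only [e', Finset.sum_update_of_mem (Finset.mem_univ j)]
        rw [← Finset.add_sum_erase _ _ (Finset.mem_univ j), Finset.sdiff_singleton_eq_erase]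
        omega
      have hd' : ∑ i, (e' i : ℤ) * deg i = (∑ i, (e i : ℤ) * deg i) + deg j := by
        rw [← Finset.add_sum_erase _ _ (Finset.mem_univ j), ← Finset.add_sum_erase _ (fun i => (e i : ℤ) * deg i) (Finset.mem_univ j)]
        have : ∀ i ∈ Finset.univ.erase j, (e' i : ℤ) * deg i = (e i : ℤ) * deg i := fun i hi => by
          simp [e', Function.update_of_ne (Finset.ne_of_mem_erase hi)]
        rw [Finset.sum_congr rfl this]
        simp [e']
        ring
      have hp' : c j * f j * ∏ i, f i ^ e i = c j * ∏ i, f i ^ e' i := by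
        rw [← Finset.mul_prod_erase _ _ (Finset.mem_univ j), ← Finset.mul_prod_erase _ (fun i => f i ^ e' i) (Finset.mem_univ j)]
        have : ∀ i ∈ Finset.univ.erase j, f i ^ e' i = f i ^ e i := fun i hi => by
          simp [e', Function.update_of_ne (Finset.ne_of_mem_erase hi)]
        rw [Finset.prod_congr rfl this]
        simp [e', pow_succ]
        ring
      rw [hp']
      refine ih e' (c j) (by omega) ?_
      rw [hd', sub_add_eq_sub_sub]
      exact hc j
  have := key (K + 1) (fun _ => 0) x (by simp) (by simpa using hx)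
  simpa using this

lemma piece_le_pow_mul (hdeg : ∀ i, 0 < deg i) (hf : ∀ i, f i ∈ 𝒜 (deg i))
    (hgen : Ideal.span {a : A | ∃ n : ℤ, 0 < n ∧ a ∈ 𝒜 n} = Ideal.span (Set.range f))
    (d : ℤ) (hd : 0 < d) (hdvd : ∀ i, deg i ∣ d) :
    ∀ (k : ℕ) (N : ℤ), d * p - ∑ i, deg i + k * d < N → 𝒜 N ≤ (𝒜 d) ^ k * 𝒜 (N - k * d) := by
  intro k
  induction k with
  | zero => intro N _; simp
  | succ k ih =>
    intro N hN
    have hk : (0 : ℤ) ≤ k * d := by positivity
    rw [piece_eq 𝒜 f deg hdeg hf hgen d hd hdvd N (by push_cast at hN; nlinarith)]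
    refine le_trans (mul_le_mul' le_rfl (ih (N - d) (by push_cast at hN; linarith))) ?_
    rw [pow_succ', ← mul_assoc, show N - d - (k : ℤ) * d = N - ((k + 1 : ℕ) : ℤ) * d by push_cast; ring]

end Groth.Agent.GrRingLib
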